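import Cfsg.Agent.Lib.ExtFieldSymp.Main
import Cfsg.Agent.Lib.ClassicalMax.SympTools
import Cfsg.Agent.Lib.ClassicalMax.SympUnitary

/-!
The normaliser of a self-adjoint extension field of prime degree is maximal in a symplectic group.
-/

set_option autoImplicit false
set_option linter.unusedSectionVars false
set_option linter.unusedVariables false
set_option linter.style.haveILetI false

namespace CfsgLib.ExtFieldSymp

open Module Matrix Cfsg.Geo CfsgLib.ClassicalMax CfsgLib.ExtFieldMax

variable {ι : Type} [Fintype ι] [DecidableEq ι] {F : Type*} [Field F]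

/-- Invertible matrices as linear automorphisms. -/
noncomputable def glAut : GL ι F ≃* ((ι → F) ≃ₗ[F] (ι → F)) :=
  Matrix.GeneralLinearGroup.toLin.trans (LinearMap.GeneralLinearGroup.generalLinearEquiv F _)

lemma glAut_apply (g : GL ι F) (v : ι → F) : glAut g v = (g : Matrix ι ι F) *ᵥ v := rfl

variable [Fintype F] [DecidableEq F] {f : (ι → F) → (ι → F) → F} {r : ℕ}
  {K : Subalgebra F (Matrix ι ι F)}

theorem symp_extField_maximal_of_small (hf : IsSymplecticForm f) (hr : r.Prime)
    (hn : 0 < Fintype.card ι) (hsm : Fintype.card F = 2 → 6 ≤ Fintype.card ι) (hK : IsFieldSubalgebra r K) (hsa : IsSelfAdjointFor f K)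
    (halt : ∀ k ∈ K, ∀ v : ι → F, f (k *ᵥ v) v = 0) :
    IsMaximalIn (isoOf f) (subalgebraNormalizer K ⊓ isoOf f) := by
  classical
  haveI : Nonempty ι := Fintype.card_pos_iff.1 (by omega)
  have hfield : IsField K :=
    { exists_pair_ne := ⟨0, 1, fun h => zero_ne_one (α := Matrix ι ι F) (congrArg Subtype.val h)⟩
      mul_comm := fun a b => Subtype.ext (hK.comm a.1 a.2 b.1 b.2)
      mul_inv_cancel := fun {a} ha => by
        obtain ⟨y, hy, hxy⟩ := hK.inv a.1 a.2 (fun h => ha (Subtype.ext h))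
        exact ⟨⟨y, hy⟩, Subtype.ext hxy⟩ }
  letI : Field K := hfield.toField
  letI iV : Module ↥K (ι → F) :=
    { smul := fun k v => (k : Matrix ι ι F) *ᵥ v
      one_smul := fun v => one_mulVec v
      mul_smul := fun a b v => (mulVec_mulVec v _ _).symm
      smul_zero := fun a => mulVec_zero _
      smul_add := fun a v w => mulVec_add _ _ _
      add_smul := fun a b v => add_mulVec _ _ _
      zero_smul := fun v => zero_mulVec v }
  have hsmul : ∀ (k : ↥K) (v : ι → F), k • v = (k : Matrix ι ι F) *ᵥ v := fun k v => rfl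
  haveI : IsScalarTower F ↥K (ι → F) := ⟨fun a k v => smul_mulVec a _ v⟩
  have hfr : finrank F ↥K = r := hK.finrank_eq
  haveI : FiniteDimensional F ↥K := Module.finite_of_finrank_pos (lt_of_lt_of_eq hr.pos hfr.symm)
  haveI : FiniteDimensional ↥K (ι → F) := Module.Finite.of_restrictScalars_finite F _ _
  -- the form over `K`
  have hnd := traceForm_nondegenerate F ↥K
  let T := (Algebra.traceForm F ↥K).toDual hnd
  let toV : (ι → F) → ↥K →ₗ[F] (ι → F) := fun u =>
    { toFun := fun a => a • u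
      map_add' := fun a b => add_smul a b u
      map_smul' := fun c a => smul_assoc c a u }
  let g₀ : (ι → F) → (ι → F) → ↥K := fun u v =>
    T.symm (((bilinOf hf.bilinear).flip v).comp (toV u))
  have hg : ∀ u v a, Algebra.trace F ↥K (g₀ u v * a) = f (a • u) v := fun u v a => by
    rw [← Algebra.traceForm_apply]
    exact LinearMap.BilinForm.apply_toDual_symm_apply _ a
  have huniq : ∀ x y : ↥K, (∀ a, Algebra.trace F ↥K (x * a) = Algebra.trace F ↥K (y * a)) → x = y :=
    fun x y h => tr_ext fun k => by rw [mul_comm k x, mul_comm k y]; exact h k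
  let H : (ι → F) →ₗ[↥K] (ι → F) →ₗ[↥K] ↥K := LinearMap.mk₂ ↥K g₀
    (fun u u' v => huniq _ _ fun a => by
      rw [hg, add_mul, map_add, hg, hg, smul_add, hf.bilinear.add_left])
    (fun b u v => huniq _ _ fun a => by
      rw [hg, smul_eq_mul, mul_comm b, mul_assoc, hg, smul_smul, mul_comm a b])
    (fun u v v' => huniq _ _ fun a => by
      rw [hg, add_mul, map_add, hg, hg, hf.bilinear.add_right])
    (fun b u v => huniq _ _ fun a => by
      rw [hg, smul_eq_mul, mul_comm b, mul_assoc, hg, hsmul b v, ← hsa b.1 b.2, ← hsmul, smul_smul])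
  have hfH : ∀ u v, f u v = Algebra.trace F ↥K (H u v) := fun u v => by
    show _ = Algebra.trace F ↥K (g₀ u v)
    rw [← mul_one (g₀ u v), hg, one_smul]
  have hHalt : ∀ v, H v v = 0 := fun v => huniq _ _ fun a => by
    rw [zero_mul, map_zero]
    show Algebra.trace F ↥K (g₀ v v * a) = 0
    rw [hg, hsmul, halt a.1 a.2]
  have hHnd : ∀ u, (∀ v, H u v = 0) → u = 0 := fun u h =>
    eq_zero_of_form_left hf.nondegenerate fun v => by rw [hfH, h, map_zero]
  have htwo : 2 ≤ finrank ↥K (ι → F) := by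
    obtain ⟨v, hv⟩ : ∃ v : ι → F, v ≠ 0 := ⟨fun _ => 1, fun e => one_ne_zero
      (congrFun e (Classical.arbitrary ι))⟩
    by_contra hh
    refine hv (hHnd v fun y => ?_)
    obtain ⟨k, hk⟩ := exists_smul_eq_of_finrank_eq_one
      (show finrank ↥K (ι → F) = 1 by
        have := (Module.finrank_pos_iff_exists_ne_zero (R := ↥K)).2 ⟨v, hv⟩; omega) hv y
    rw [← hk, map_smul, hHalt, smul_zero]
  have hmulr := Module.finrank_mul_finrank F ↥K (ι → F)
  rw [hfr, Module.finrank_pi] at hmulr
  have hsmall : Fintype.card F = 2 → finrank F ↥K = 2 → 3 ≤ finrank ↥K (ι → F) := fun hq h2 => by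
    have := hsm hq
    rw [hfr] at h2; subst h2; omega
  -- membership in the normaliser and semilinearity
  have hsemiN : ∀ g : GL ι F, IsSemi (↥K) (glAut g) → g ∈ subalgebraNormalizer K := by
    intro g hs
    refine SympUnitary.mem_normalizer_of fun k hk => ?_
    obtain ⟨k', hk'⟩ := hs ⟨k, hk⟩
    have h1 : (g : Matrix ι ι F) * k = (k' : Matrix ι ι F) * g :=
      Matrix.ext_of_mulVec_single fun i => by
        rw [← mulVec_mulVec, ← mulVec_mulVec, ← glAut_apply g, ← glAut_apply g]
        exact hk' _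
    rw [h1, Matrix.mul_assoc, ← Units.val_mul, mul_inv_cancel, Units.val_one, Matrix.mul_one]
    exact k'.2
  have hNsemi : ∀ g : GL ι F, g ∈ subalgebraNormalizer K → IsSemi (↥K) (glAut g) := by
    intro g hg k
    refine ⟨⟨_, (hg k).1 k.2⟩, fun v => ?_⟩
    rw [hsmul, hsmul, glAut_apply, glAut_apply, mulVec_mulVec, mulVec_mulVec, Matrix.mul_assoc,
      ← Units.val_mul, inv_mul_cancel, Units.val_one, Matrix.mul_one]
  -- transvections over `K`
  have htv : ∀ (u : ι → F) (d : ↥K), ∃ g ∈ subalgebraNormalizer K ⊓ isoOf f,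
      ∀ x, glAut g x = x + (d * H x u) • u := by
    intro u d
    have hχ : (d • H.flip u : (ι → F) →ₗ[↥K] ↥K) u = 0 := by simp [hHalt]
    set e := LinearEquiv.transvection hχ with he
    have hex : ∀ x, e x = x + (d * H x u) • u := fun x => rfl
    have hskew : ∀ x y, H y x = - H x y := fun x y => by
      have e := hHalt (x + y)
      simp only [map_add, LinearMap.add_apply, hHalt x, hHalt y, zero_add, add_zero] at e
      exact eq_neg_of_add_eq_zero_left e
    refine ⟨glAut.symm (e.restrictScalars F), ⟨hsemiN _ fun k => ⟨k, fun v => ?_⟩, mem_isoOf.2 fun x y => ?_⟩,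
      fun x => ?_⟩
    · rw [MulEquiv.apply_symm_apply]
      exact map_smul e k v
    · rw [← glAut_apply, ← glAut_apply, MulEquiv.apply_symm_apply, hfH, hfH x y]
      show Algebra.trace F ↥K (H (e x) (e y)) = _
      refine congrArg _ ?_
      simp only [hex, map_add, map_smul, LinearMap.add_apply, LinearMap.smul_apply, smul_eq_mul,
        hHalt, hskew y u]
      ring
    · rw [MulEquiv.apply_symm_apply]
      exact hex x
  have key : ∀ M : Subgroup (GL ι F), subalgebraNormalizer K ⊓ isoOf f ≤ M → M ≤ isoOf f →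
      Setup (M.map (glAut (ι := ι) (F := F)).toMonoidHom) H := by
    intro M h1 h2
    refine ⟨by rw [hfr]; exact hr, htwo, hHalt, hHnd, ?_, fun u d => ?_⟩
    · rintro _ ⟨g, hg, rfl⟩ x y
      rw [← hfH, ← hfH]
      exact h2 hg x y
    · obtain ⟨g, hg, e⟩ := htv u d
      exact ⟨glAut g, Subgroup.mem_map_of_mem _ (h1 hg), e⟩
  refine isMaximalIn_of inf_le_right ?_ fun M h1 h2 g hg hgN => ?_
  · obtain ⟨v, hv⟩ : ∃ v : ι → F, v ≠ 0 := ⟨fun _ => 1, fun e => one_ne_zero
      (congrFun e (Classical.arbitrary ι))⟩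
    refine ⟨sTv f v 1, sTv_mem_isoOf hf v 1, fun hN => ?_⟩
    refine (key _ le_rfl inf_le_right).not_isSemi_of_transvection hv (g := glAut (sTv f v 1))
      (fun x => ?_) (hNsemi _ hN.1)
    rw [glAut_apply, sTv_mulVec hf, one_mul, hfH]
  · refine isoOf_le_of_sTv hf fun v c => ?_
    have hns : ∃ g' ∈ M.map (glAut (ι := ι) (F := F)).toMonoidHom, ¬ IsSemi (↥K) g' :=
      ⟨glAut g, Subgroup.mem_map_of_mem _ hg, fun hs => hgN ⟨hsemiN g hs, h2 hg⟩⟩
    obtain ⟨_, ⟨m, hm, rfl⟩, e⟩ := (key M h1 h2).transvection_mem hns hsmall v c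
    have : sTv f v c = m := gl_ext_mulVec fun x => by
      rw [sTv_mulVec hf, hfH, ← glAut_apply m]
      exact (e x).symm
    rw [this]; exact hm

theorem symp_extField_maximal (hf : IsSymplecticForm f) (hr : r.Prime)
    (hn : 6 ≤ Fintype.card ι) (hK : IsFieldSubalgebra r K) (hsa : IsSelfAdjointFor f K)
    (halt : ∀ k ∈ K, ∀ v : ι → F, f (k *ᵥ v) v = 0) :
    IsMaximalIn (isoOf f) (subalgebraNormalizer K ⊓ isoOf f) :=
  symp_extField_maximal_of_small hf hr (by omega) (fun _ => hn) hK hsa halt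

end CfsgLib.ExtFieldSymp
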