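import Mathlib
import Cfsg.Agent.Lib.ExtFieldMax.Basic

/-!
Groups of isometries of the trace of an alternating `K`-form, containing the `K`-transvections,
for an extension `K` of the finite field `F` of prime degree: transitivity and root sets.
-/

set_option autoImplicit false
set_option linter.unusedSectionVars false
set_option linter.unusedVariables false
set_option linter.style.haveILetI false

namespace CfsgLib.ExtFieldSymp

open Module CfsgLib.ExtFieldMax

variable {F K V : Type*} [Field F] [Fintype F] [Field K] [Algebra F K] [AddCommGroup V]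
  [Module F V] [Module K V] [IsScalarTower F K V] [FiniteDimensional F V]
  [FiniteDimensional F K] [FiniteDimensional K V]

/-- `M` preserves the trace of the alternating form `H` and contains its transvections. -/
structure Setup (M : Subgroup (V ≃ₗ[F] V)) (H : V →ₗ[K] V →ₗ[K] K) : Prop where
  prime : (finrank F K).Prime
  two_le : 2 ≤ finrank K V
  alt : ∀ x, H x x = 0
  nondeg : ∀ x, (∀ y, H x y = 0) → x = 0
  iso : ∀ g ∈ M, ∀ x y, Algebra.trace F K (H (g x) (g y)) = Algebra.trace F K (H x y)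
  tv : ∀ (u : V) (d : K), ∃ g ∈ M, ∀ x, g x = x + (d * H x u) • u

/-- `X'` is adjoint to `X` for the trace form. -/
def IsAdj (X X' : Module.End F K) : Prop :=
  ∀ a b, Algebra.trace F K (X a * b) = Algebra.trace F K (a * X' b)

/-- The maps `D` with `x ↦ x + D (H x u) u` in `M`. -/
def rootSet (M : Subgroup (V ≃ₗ[F] V)) (H : V →ₗ[K] V →ₗ[K] K) (u : V) : Set (Module.End F K) :=
  {D | ∃ g ∈ M, ∀ x, g x = x + D (H x u) • u}

lemma tr_ext {a b : K} (h : ∀ k, Algebra.trace F K (k * a) = Algebra.trace F K (k * b)) : a = b :=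
  sub_eq_zero.1 ((traceForm_nondegenerate F K).1 _ fun k => by
    rw [Algebra.traceForm_apply, mul_comm, mul_sub, map_sub, h, sub_self])

namespace Setup

variable {M : Subgroup (V ≃ₗ[F] V)} {H : V →ₗ[K] V →ₗ[K] K} (h : Setup M H)
include h

lemma skew (x y : V) : H y x = - H x y := by
  have e := h.alt (x + y)
  simp only [map_add, LinearMap.add_apply, h.alt x, h.alt y, zero_add, add_zero] at e
  exact eq_neg_of_add_eq_zero_left e

lemma exists_rep (χ : V →ₗ[K] K) : ∃ w, ∀ x, H x w = χ x := by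
  have hinj : Function.Injective (H.flip) := by
    rw [injective_iff_map_eq_zero]
    intro w hw
    refine h.nondeg w fun y => ?_
    rw [h.skew y w, show H y w = 0 from LinearMap.congr_fun hw y, neg_zero]
  obtain ⟨w, hw⟩ := (LinearMap.injective_iff_surjective_of_finrank_eq_finrank
    (by rw [Subspace.dual_finrank_eq])).mp hinj χ
  exact ⟨w, fun x => LinearMap.congr_fun hw x⟩

lemma exists_eval {a u : V} (ha : a ∉ K ∙ u) : ∃ w, H u w = 0 ∧ H a w = 1 := by
  obtain ⟨χ, h1, h2⟩ := exists_functional_one ha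
  obtain ⟨w, hw⟩ := h.exists_rep χ
  exact ⟨w, by rw [hw, h1], by rw [hw, h2]⟩

lemma exists_H_eq {u : V} (hu : u ≠ 0) (a : K) : ∃ x, H x u = a := by
  obtain ⟨y, hy⟩ : ∃ y, H y u ≠ 0 := by
    by_contra hh
    simp only [not_exists, not_not] at hh
    exact hu (h.nondeg u fun y => by rw [h.skew y u, hh, neg_zero])
  exact ⟨(a * (H y u)⁻¹) • y, by simp [hy]⟩

lemma iso_of_linear {g : V ≃ₗ[F] V} (hg : g ∈ M) (hlin : ∀ (k : K) x, g (k • x) = k • g x)
    (x y : V) : H (g x) (g y) = H x y :=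
  tr_ext fun k => by
    have e := h.iso g hg (k • x) y
    simpa [hlin] using e

/-- Short root elements. -/
lemma short {u w : V} (huw : H u w = 0) (c : K) :
    ∃ g ∈ M, ∀ x, g x = x + (c * H x w) • u + (c * H x u) • w := by
  have hwu : H w u = 0 := by rw [h.skew u w, huw, neg_zero]
  obtain ⟨g₁, h₁, e₁⟩ := h.tv (u + w) c
  obtain ⟨g₂, h₂, e₂⟩ := h.tv u (-c)
  obtain ⟨g₃, h₃, e₃⟩ := h.tv w (-c)
  refine ⟨g₁ * (g₂ * g₃), M.mul_mem h₁ (M.mul_mem h₂ h₃), fun x => ?_⟩
  simp only [LinearEquiv.mul_apply, e₁, e₂, e₃, map_add, map_smul, LinearMap.add_apply,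
    LinearMap.smul_apply, smul_eq_mul, h.alt, huw, hwu, mul_zero, add_zero]
  match_scalars <;> ring

/-- The unipotent radical elements at `u`. -/
lemma siegel {u w : V} (huw : H u w = 0) (d : K) :
    ∃ g ∈ M, ∀ x, g x = x + H x w • u + H x u • w + (d * H x u) • u := by
  obtain ⟨g₁, h₁, e₁⟩ := h.short huw 1
  obtain ⟨g₂, h₂, e₂⟩ := h.tv u d
  refine ⟨g₂ * g₁, M.mul_mem h₂ h₁, fun x => ?_⟩
  have hwu : H w u = 0 := by rw [h.skew u w, huw, neg_zero]
  simp [e₁, e₂, h.alt, hwu]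

/-- The transvections act transitively on nonzero vectors. -/
lemma exists_map {a b : V} (ha : a ≠ 0) (hb : b ≠ 0) :
    ∃ g ∈ M, g a = b ∧ ∀ (k : K) (x : V), g (k • x) = k • g x := by
  have key : ∀ a b : V, H a b ≠ 0 → ∃ g ∈ M, g a = b ∧ ∀ (k : K) (x : V), g (k • x) = k • g x := by
    intro a b hab
    obtain ⟨g, hg, e⟩ := h.tv (b - a) (H a b)⁻¹
    refine ⟨g, hg, ?_, fun k x => ?_⟩
    · simp [e, h.alt, hab]
    · simp only [e, map_smul, LinearMap.smul_apply, smul_eq_mul]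
      match_scalars <;> ring
  obtain ⟨z, haz, hzb⟩ : ∃ z, H a z ≠ 0 ∧ H z b ≠ 0 := by
    obtain ⟨p, hp⟩ : ∃ p, H a p ≠ 0 := by
      by_contra hh; simp only [not_exists, not_not] at hh; exact ha (h.nondeg a hh)
    obtain ⟨q, hq⟩ := h.exists_H_eq hb 1
    by_cases h1 : H p b = 0
    · by_cases h2 : H a q = 0
      · exact ⟨p + q, by simp [h2, hp], by simp [h1, hq]⟩
      · exact ⟨q, h2, by simp [hq]⟩
    · exact ⟨p, hp, h1⟩
  obtain ⟨g₁, h₁, e₁, l₁⟩ := key a z haz
  obtain ⟨g₂, h₂, e₂, l₂⟩ := key z b hzb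
  exact ⟨g₂ * g₁, M.mul_mem h₂ h₁, by simp [e₁, e₂], fun k x => by simp [l₁, l₂]⟩

/-- If some member of `M` is not semilinear, every non-scalar of `K` is moved off some line. -/
lemma exists_off (hns : ∃ g ∈ M, ¬ IsSemi K g) {c : K} (hc : c ∉ Set.range (algebraMap F K)) :
    ∃ g ∈ M, ∃ u : V, g (c • u) ∉ K ∙ g u := by
  by_contra hh
  simp only [not_exists, not_and, not_not] at hh
  let E : Subalgebra F K :=
    { carrier := {d | ∀ g ∈ M, ∀ u : V, ∃ k : K, g (d • u) = k • g u}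
      mul_mem' := fun {d e} hd he g hg u => by
        obtain ⟨k, hk⟩ := hd g hg (e • u)
        obtain ⟨j, hj⟩ := he g hg u
        exact ⟨k * j, by rw [mul_smul, hk, hj, mul_smul]⟩
      add_mem' := fun {d e} hd he g hg u => by
        obtain ⟨k, hk⟩ := hd g hg u
        obtain ⟨j, hj⟩ := he g hg u
        exact ⟨k + j, by rw [add_smul, map_add, hk, hj, add_smul]⟩
      algebraMap_mem' := fun f g _ u =>
        ⟨algebraMap F K f, by rw [algebraMap_smul, map_smul, algebraMap_smul]⟩ }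
  have hcE : c ∈ E := fun g hg u => by
    obtain ⟨k, hk⟩ := Submodule.mem_span_singleton.mp (hh g hg u)
    exact ⟨k, hk.symm⟩
  rcases (Subalgebra.isSimpleOrder_of_finrank_prime F K h.prime).eq_bot_or_eq_top E with hE | hE
  · rw [hE] at hcE
    exact hc (Algebra.mem_bot.mp hcE)
  obtain ⟨g, hg, hns⟩ := hns
  refine hns fun k => ?_
  have hline : ∀ v, ∃ j : K, g (k • v) = j • g v := fun v =>
    (show k ∈ E by rw [hE]; exact Algebra.mem_top) g hg v
  choose f hf using hline
  obtain ⟨w₀, hw₀⟩ := exists_notMem_span h.two_le (0 : V)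
  have hind : ∀ v w : V, v ≠ 0 → g w ∉ K ∙ g v → f w = f v := by
    intro v w hv hw
    have h1 : g (k • (v + w)) = f (v + w) • g v + f (v + w) • g w := by
      rw [hf, map_add, smul_add]
    rw [smul_add, map_add, hf, hf] at h1
    have h2 : (f v - f (v + w)) • g v = (f (v + w) - f w) • g w := by
      rw [sub_smul, sub_smul, sub_eq_sub_iff_add_eq_add, h1]; abel
    by_cases h3 : f (v + w) - f w = 0
    · rw [h3, zero_smul, smul_eq_zero] at h2
      rcases h2 with h2 | h2
      · rw [sub_eq_zero.mp h2, ← sub_eq_zero.mp h3]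
      · exact absurd (g.map_eq_zero_iff.mp h2) hv
    · exact absurd (Submodule.mem_span_singleton.mpr ⟨_, by
        rw [mul_smul, h2, inv_smul_smul₀ h3]⟩) hw
  have hw00 : w₀ ≠ 0 := fun e => hw₀ (by simp [e])
  refine ⟨f w₀, fun v => ?_⟩
  rcases eq_or_ne v 0 with rfl | hv
  · simp
  by_cases hd : g w₀ ∈ K ∙ g v
  · obtain ⟨z, hz⟩ := exists_notMem_span h.two_le (g v)
    have hz' : g (g.symm z) ∉ K ∙ g v := by rwa [g.apply_symm_apply]
    have hz0 : g.symm z ≠ 0 := fun e => hz' (by simp [e])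
    have hz'' : g (g.symm z) ∉ K ∙ g w₀ := fun hm => by
      obtain ⟨j, hj⟩ := Submodule.mem_span_singleton.mp hm
      exact hz' (hj ▸ (K ∙ g v).smul_mem j hd)
    rw [hf, ← hind v _ hv hz', hind w₀ _ hw00 hz'']
  · rw [hf, hind v w₀ hv hd]

/-! ### Root sets -/

lemma rootSet_zero (u : V) : (0 : Module.End F K) ∈ rootSet M H u :=
  ⟨1, M.one_mem, fun x => by simp⟩

lemma rootSet_add {u : V} {D E : Module.End F K} (hD : D ∈ rootSet M H u) (hE : E ∈ rootSet M H u) :
    D + E ∈ rootSet M H u := by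
  obtain ⟨g, hg, eg⟩ := hD
  obtain ⟨t, ht, et⟩ := hE
  refine ⟨g * t, M.mul_mem hg ht, fun x => ?_⟩
  simp [eg, et, h.alt, add_smul]
  abel

lemma rootSet_neg {u : V} {D : Module.End F K} (hD : D ∈ rootSet M H u) : -D ∈ rootSet M H u := by
  obtain ⟨g, hg, eg⟩ := hD
  refine ⟨g⁻¹, M.inv_mem hg, fun x => g.injective ?_⟩
  show g (g.symm x) = _
  rw [g.apply_symm_apply, eg]
  simp [h.alt]

lemma rootSet_sum {ι : Type*} {s : Finset ι} {D : ι → Module.End F K} {u : V}
    (hD : ∀ i ∈ s, D i ∈ rootSet M H u) : ∑ i ∈ s, D i ∈ rootSet M H u :=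
  Finset.sum_induction D _ (fun _ _ => h.rootSet_add) (h.rootSet_zero u) hD

lemma mulLeft_mem_rootSet (u : V) (d : K) : LinearMap.mulLeft F d ∈ rootSet M H u := h.tv u d

lemma isAdj_self {u : V} (hu : u ≠ 0) {D : Module.End F K} (hD : D ∈ rootSet M H u) :
    IsAdj D D := by
  obtain ⟨g, hg, eg⟩ := hD
  intro a b
  obtain ⟨x, rfl⟩ := h.exists_H_eq hu a
  obtain ⟨y, rfl⟩ := h.exists_H_eq hu b
  have e := h.iso g hg x y
  simp only [eg, map_add, map_smul, LinearMap.add_apply, LinearMap.smul_apply, smul_eq_mul,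
    h.alt, mul_zero, add_zero, h.skew y u, mul_neg, map_neg] at e
  rw [mul_comm (H x u)]
  linear_combination -e

/-- A member of `M` carrying the line of `u` to that of `u'` carries the root sets. -/
lemma rootSet_conj {u u' : V} {g : V ≃ₗ[F] V} (hg : g ∈ M) {a a' : Module.End F K}
    (ha : ∀ k : K, g (k • u) = a k • u') (haa : IsAdj a a') {D : Module.End F K}
    (hD : D ∈ rootSet M H u) : a ∘ₗ D ∘ₗ a' ∈ rootSet M H u' := by
  obtain ⟨t, ht, et⟩ := hD
  refine ⟨g * t * g⁻¹, M.mul_mem (M.mul_mem hg ht) (M.inv_mem hg), fun x => ?_⟩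
  have key : H (g.symm x) u = a' (H x u') := tr_ext fun k => by
    have e := h.iso g hg (g.symm x) (k • u)
    rw [g.apply_symm_apply, ha, (H (g.symm x)).map_smul, (H x).map_smul, smul_eq_mul,
      smul_eq_mul] at e
    rw [← e, haa]
  simp only [LinearEquiv.mul_apply, et, map_add, ha]
  show g (g.symm x) + _ = _
  rw [g.apply_symm_apply, show (g⁻¹ : V ≃ₗ[F] V) x = g.symm x from rfl, key]
  rfl

lemma mulLeft_conj {u : V} (hu : u ≠ 0) {D : Module.End F K} (hD : D ∈ rootSet M H u) (μ : K) :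
    LinearMap.mulLeft F μ ∘ₗ D ∘ₗ LinearMap.mulLeft F μ ∈ rootSet M H u := by
  rcases eq_or_ne μ 0 with rfl | hμ
  · convert h.rootSet_zero u using 1
    ext x; simp
  obtain ⟨g, hg, eg, lg⟩ := h.exists_map hu (smul_ne_zero hμ hu)
  exact h.rootSet_conj hg (a := LinearMap.mulLeft F μ)
    (fun k => by rw [lg, eg, smul_smul, LinearMap.mulLeft_apply, mul_comm])
    (fun a b => by simp only [LinearMap.mulLeft_apply]; ring_nf) hD

lemma polar_mem {u : V} (hu : u ≠ 0) {D : Module.End F K} (hD : D ∈ rootSet M H u) (μ ν : K) :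
    LinearMap.mulLeft F μ ∘ₗ D ∘ₗ LinearMap.mulLeft F ν +
      LinearMap.mulLeft F ν ∘ₗ D ∘ₗ LinearMap.mulLeft F μ ∈ rootSet M H u := by
  have e := h.rootSet_add (h.mulLeft_conj hu hD (μ + ν))
    (h.rootSet_neg (h.rootSet_add (h.mulLeft_conj hu hD μ) (h.mulLeft_conj hu hD ν)))
  convert e using 1
  ext x
  simp [add_mul, mul_add]
  ring

end Setup

end CfsgLib.ExtFieldSymp
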