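import Mathlib
import Cfsg.Agent.Lib.ExtFieldSymp.Basic

/-!
Endomorphisms of `K` over `F` written by their coefficients on the Galois group.
-/

set_option autoImplicit false
set_option linter.unusedSectionVars false
set_option linter.unusedVariables false
set_option linter.style.haveILetI false

namespace CfsgLib.ExtFieldSymp

open Module

variable {F K : Type*} [Field F] [Fintype F] [Field K] [Algebra F K] [FiniteDimensional F K]

/-- `Σ c σ σ`. -/
noncomputable def ev (c : (K ≃ₐ[F] K) → K) : Module.End F K := ∑ σ, c σ • σ.toLinearMap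

lemma ev_apply (c : (K ≃ₐ[F] K) → K) (a : K) : ev c a = ∑ σ, c σ * σ a := by
  simp [ev, LinearMap.sum_apply]

lemma linearIndependent_aut :
    LinearIndependent K (fun σ : K ≃ₐ[F] K => σ.toLinearMap) :=
  (linearIndependent_toLinearMap F K K).comp (fun σ : K ≃ₐ[F] K => σ.toAlgHom)
    fun σ τ hst => AlgEquiv.ext fun x => DFunLike.congr_fun hst x

lemma eq_zero_of_forall {c : (K ≃ₐ[F] K) → K} (h : ∀ a, ∑ σ, c σ * σ a = 0) : c = 0 := by
  have h0 : ∑ σ : K ≃ₐ[F] K, c σ • σ.toLinearMap = (0 : K →ₗ[F] K) :=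
    LinearMap.ext fun a => by simpa [LinearMap.sum_apply] using h a
  have hli := linearIndependent_aut (F := F) (K := K)
  rw [Fintype.linearIndependent_iff] at hli
  exact funext (hli c h0)

lemma ev_injective : Function.Injective (ev (F := F) (K := K)) := fun c d hcd => by
  refine sub_eq_zero.1 (eq_zero_of_forall (c := c - d) fun a => ?_)
  have e := LinearMap.congr_fun hcd a
  rw [ev_apply, ev_apply] at e
  simp [sub_mul, Finset.sum_sub_distrib, e]

lemma ev_surjective : Function.Surjective (ev (F := F) (K := K)) := fun X => by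
  haveI : Finite K := Module.finite_of_finite F
  have hcard : Fintype.card (K ≃ₐ[F] K) = finrank K (K →ₗ[F] K) := by
    rw [Module.finrank_linearMap, Module.finrank_self, mul_one, ← Nat.card_eq_fintype_card,
      IsGalois.card_aut_eq_finrank]
  have hspan := (linearIndependent_aut (F := F) (K := K)).span_eq_top_of_card_eq_finrank hcard
  exact (Submodule.mem_span_range_iff_exists_fun K).mp (hspan ▸ Submodule.mem_top)

lemma ev_add (c d : (K ≃ₐ[F] K) → K) : ev (c + d) = ev c + ev d := by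
  simp [ev, add_smul, Finset.sum_add_distrib]

lemma ev_zero : ev (0 : (K ≃ₐ[F] K) → K) = 0 := by simp [ev]

open Classical in
lemma ev_single_one (k : K) : ev (Pi.single (1 : K ≃ₐ[F] K) k) = LinearMap.mulLeft F k := by
  ext a
  rw [ev_apply, Finset.sum_eq_single (1 : K ≃ₐ[F] K) (fun σ _ hσ => by simp [hσ]) (by simp)]
  simp

lemma ev_comp (x d : (K ≃ₐ[F] K) → K) :
    ev x ∘ₗ ev d = ev (fun t => ∑ k, x k * k (d (k⁻¹ * t))) := by
  ext a
  simp only [LinearMap.comp_apply, ev_apply, map_sum, map_mul]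
  conv_rhs => simp only [Finset.sum_mul]; rw [Finset.sum_comm]
  rw [Finset.sum_comm]
  refine Finset.sum_congr rfl fun k _ => Fintype.sum_equiv (Equiv.mulLeft k) _ _ fun j => ?_
  simp [mul_assoc]

lemma ev_polar (μ ν : K) (d : (K ≃ₐ[F] K) → K) :
    LinearMap.mulLeft F μ ∘ₗ ev d ∘ₗ LinearMap.mulLeft F ν +
      LinearMap.mulLeft F ν ∘ₗ ev d ∘ₗ LinearMap.mulLeft F μ =
        ev (fun σ => d σ * (μ * σ ν + ν * σ μ)) := by
  ext a
  simp only [LinearMap.add_apply, LinearMap.comp_apply, LinearMap.mulLeft_apply, ev_apply, map_mul,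
    Finset.mul_sum, ← Finset.sum_add_distrib]
  exact Finset.sum_congr rfl fun σ _ => by ring

/-- The coefficients of the adjoint. -/
def adjC (c : (K ≃ₐ[F] K) → K) : (K ≃ₐ[F] K) → K := fun τ => τ (c τ⁻¹)

lemma adjC_adjC (c : (K ≃ₐ[F] K) → K) : adjC (adjC c) = c := by
  funext τ
  show τ (τ⁻¹ (c τ⁻¹⁻¹)) = c τ
  rw [inv_inv]
  exact τ.apply_symm_apply _

lemma isAdj_adjC (c : (K ≃ₐ[F] K) → K) : IsAdj (ev c) (ev (adjC c)) := by
  intro a b
  rw [ev_apply, ev_apply, Finset.sum_mul, Finset.mul_sum, map_sum, map_sum]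
  refine Fintype.sum_equiv (Equiv.inv _) _ _ fun σ => ?_
  rw [← Algebra.trace_eq_of_algEquiv σ⁻¹ (c σ * σ a * b)]
  simp only [Equiv.inv_apply, adjC, inv_inv, map_mul, show σ⁻¹ (σ a) = a from σ.symm_apply_apply a]
  ring_nf

lemma IsAdj.eq {X Y Y' : Module.End F K} (h : IsAdj X Y) (h' : IsAdj X Y') : Y = Y' :=
  LinearMap.ext fun b => tr_ext fun k => by rw [← h, h']

lemma adjC_eq_of_isAdj_self {d : (K ≃ₐ[F] K) → K} (h : IsAdj (ev d) (ev d)) : adjC d = d :=
  ev_injective ((isAdj_adjC d).eq h)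

end CfsgLib.ExtFieldSymp
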