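import Mathlib
import Cfsg.Agent.Lib.ExtFieldSymp.Basic

/-!
A line whose stabiliser is not semilinear on it, when some element of `K` outside `F` has no field
conjugate `c + 1` (Frattini argument on the fixer of an `F`-plane inside a `K`-line).
-/

set_option autoImplicit false
set_option linter.unusedSectionVars false
set_option linter.unusedVariables false
set_option linter.style.haveILetI false

namespace CfsgLib.ExtFieldSymp

open Module CfsgLib.ExtFieldMax

variable {F K V : Type*} [Field F] [Fintype F] [Field K] [Algebra F K] [AddCommGroup V]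
  [Module F V] [Module K V] [IsScalarTower F K V] [FiniteDimensional F V]
  [FiniteDimensional F K] [FiniteDimensional K V]

namespace Setup

variable {M : Subgroup (V ≃ₗ[F] V)} {H : V →ₗ[K] V →ₗ[K] K} (h : Setup M H)
include h

lemma mem_span_of_H_eq_zero {u x : V} (hu : u ≠ 0) (hx : ∀ w, H u w = 0 → H x w = 0) :
    x ∈ K ∙ u := by
  by_contra hh
  obtain ⟨w, h1, h2⟩ := h.exists_eval hh
  exact one_ne_zero (h2.symm.trans (hx w h1))

/-- A `K`-map in `M` fixing `a` and carrying `b` to `b + a`. -/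
lemma exists_shift {a b : V} (hb : b ∉ K ∙ a) :
    ∃ t ∈ M, t a = a ∧ t b = b + a := by
  by_cases hz : H b a = 0
  · obtain ⟨w, haw, hbw⟩ := h.exists_eval hb
    obtain ⟨t, ht, e⟩ := h.short haw 1
    exact ⟨t, ht, by simp [e, h.alt, haw], by simp [e, hz, hbw]⟩
  · obtain ⟨t, ht, e⟩ := h.tv a (H b a)⁻¹
    exact ⟨t, ht, by simp [e, h.alt], by simp [e, hz]⟩

/-- Some line stabiliser is not semilinear on its line. -/
theorem exists_line_not_semi (hns : ∃ g ∈ M, ¬ IsSemi K g) {c : K}
    (hc : c ∉ Set.range (algebraMap F K)) (hgood : ∀ τ : K →ₐ[F] K, τ c ≠ c + 1) :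
    ∃ u : V, u ≠ 0 ∧ ∃ g ∈ M, ∃ a : K →ₗ[F] K, (∀ k : K, g (k • u) = a k • u) ∧
      ¬ ∀ k z, a (k * z) * a 1 = a k * a z := by
  classical
  obtain ⟨g₀, hg₀, u, hu'⟩ := h.exists_off hns hc
  have hu : u ≠ 0 := fun e => hu' (by simp [e])
  obtain ⟨t, ht, hta, htb⟩ := h.exists_shift hu'
  set y := g₀⁻¹ * t * g₀ with hydef
  have hy : y ∈ M := M.mul_mem (M.mul_mem (M.inv_mem hg₀) ht) hg₀
  have hyu : y u = u := by simp [hydef, hta]
  have hyc : y (c • u) = c • u + u := by simp [hydef, htb]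
  refine ⟨u, hu, ?_⟩
  by_contra hM
  have hind : ∀ g ∈ M, (∀ x ∈ K ∙ u, g x ∈ K ∙ u) → g u = u →
      ∃ τ : K →ₐ[F] K, ∀ k, g (k • u) = τ k • u := by
    intro g hg hL hgu
    have hex : ∀ k : K, ∃ j : K, g (k • u) = j • u := fun k => by
      obtain ⟨j, hj⟩ := Submodule.mem_span_singleton.mp
        (hL _ (Submodule.smul_mem _ k (Submodule.mem_span_singleton_self u)))
      exact ⟨j, hj.symm⟩
    choose f hf using hex
    let a : K →ₗ[F] K :=
      { toFun := f
        map_add' := fun x y => smul_left_injective K hu (by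
          show f (x + y) • u = (f x + f y) • u
          rw [add_smul, ← hf, ← hf, ← hf, add_smul, map_add])
        map_smul' := fun r x => smul_left_injective K hu (by
          show f (r • x) • u = (r • f x) • u
          rw [smul_assoc, ← hf, ← hf, smul_assoc, map_smul]) }
    have ha : ∀ k, g (k • u) = a k • u := hf
    have hmul : ∀ k z, a (k * z) * a 1 = a k * a z := by
      by_contra hh
      exact hM ⟨g, hg, a, ha, hh⟩
    have h1 : a 1 = 1 := smul_left_injective K hu (by
      show a 1 • u = (1 : K) • u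
      rw [← ha, one_smul, hgu])
    exact ⟨AlgHom.ofLinearMap a h1 fun k z => by have := hmul k z; rwa [h1, mul_one] at this, ha⟩
  have hfixline : ∀ g ∈ M, (∀ x ∈ K ∙ u, g x ∈ K ∙ u) → g u = u → g (c • u) = c • u →
      ∀ k : K, g (k • u) = k • u := by
    intro g hg hL hgu hgc
    obtain ⟨τ, hτ⟩ := hind g hg hL hgu
    have hcE : c ∈ AlgHom.equalizer τ (AlgHom.id F K) :=
      smul_left_injective K hu (by show τ c • u = c • u; rw [← hτ, hgc])
    rcases (Subalgebra.isSimpleOrder_of_finrank_prime F K h.prime).eq_bot_or_eq_top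
        (AlgHom.equalizer τ (AlgHom.id F K)) with hE | hE
    · rw [hE] at hcE
      exact absurd (Algebra.mem_bot.mp hcE) hc
    · intro k
      have hk : k ∈ AlgHom.equalizer τ (AlgHom.id F K) := by rw [hE]; exact Algebra.mem_top
      rw [hτ, show τ k = k from hk]
  have hVfin : Finite V := Module.finite_of_finite F
  have hAfin : Finite (V ≃ₗ[F] V) :=
    Finite.of_injective (fun e : V ≃ₗ[F] V => (e : V → V)) DFunLike.coe_injective
  obtain ⟨p, hp⟩ := CharP.exists F
  have hpp : p.Prime := CharP.char_is_prime F p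
  have : Fact p.Prime := ⟨hpp⟩
  have hKp : CharP K p := charP_of_injective_algebraMap (algebraMap F K).injective p
  let R : Subgroup (V ≃ₗ[F] V) :=
    { carrier := {g | g ∈ M ∧ g u = u ∧ g (c • u) = c • u}
      one_mem' := ⟨M.one_mem, rfl, rfl⟩
      mul_mem' := fun {a b} ha hb => ⟨M.mul_mem ha.1 hb.1,
        by rw [LinearEquiv.mul_apply, hb.2.1, ha.2.1], by rw [LinearEquiv.mul_apply, hb.2.2, ha.2.2]⟩
      inv_mem' := fun {a} ha => ⟨M.inv_mem ha.1, a.symm_apply_eq.mpr ha.2.1.symm,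
        a.symm_apply_eq.mpr ha.2.2.symm⟩ }
  let Q₀ : Subgroup (V ≃ₗ[F] V) :=
    { carrier := {g | ∃ (w : V) (d : K), H u w = 0 ∧
        ∀ x, g x = x + H x w • u + H x u • w + (d * H x u) • u}
      one_mem' := ⟨0, 0, by simp, fun x => by simp⟩
      mul_mem' := by
        rintro a b ⟨w, d, h1, h2⟩ ⟨w', d', h3, h4⟩
        refine ⟨w + w', d + d' + H w' w, by simp [h1, h3], fun x => ?_⟩
        have h5 : H w' u = 0 := by rw [h.skew u w', h3, neg_zero]
        simp only [LinearEquiv.mul_apply, h4, h2, map_add, map_smul, LinearMap.add_apply,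
          LinearMap.smul_apply, smul_eq_mul, h.alt, h1, h5, mul_zero, add_zero]
        match_scalars <;> ring
      inv_mem' := by
        rintro a ⟨w, d, h1, h2⟩
        refine ⟨-w, -d, by simp [h1], fun x => a.injective ?_⟩
        have h5 : H w u = 0 := by rw [h.skew u w, h1, neg_zero]
        show a (a.symm x) = _
        rw [a.apply_symm_apply, h2]
        simp only [map_add, map_smul, map_neg, LinearMap.add_apply, LinearMap.smul_apply,
          LinearMap.neg_apply, smul_eq_mul, h.alt, h1, h5, mul_zero, add_zero, neg_zero]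
        match_scalars <;> ring }
  have hQR : Q₀ ≤ R := by
    rintro g ⟨w, d, h1, h2⟩
    obtain ⟨t, ht, htx⟩ := h.siegel h1 d
    obtain rfl : g = t := LinearEquiv.ext fun x => by rw [h2, htx]
    exact ⟨ht, by simp [h2, h1, h.alt], by simp [h2, h1, h.alt]⟩
  have hQp : IsPGroup p Q₀ := by
    rintro ⟨g, w, d, h1, h2⟩
    refine ⟨1, Subtype.ext (LinearEquiv.ext fun x => ?_)⟩
    have h5 : H w u = 0 := by rw [h.skew u w, h1, neg_zero]
    have hpow : ∀ n : ℕ, (g ^ n) x =
        x + ((n : K) * H x w) • u + ((n : K) * H x u) • w + ((n : K) * d * H x u) • u := by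
      intro n
      induction n with
      | zero => simp
      | succ n ih =>
        rw [pow_succ', LinearEquiv.mul_apply, ih, h2]
        simp only [map_add, map_smul, LinearMap.add_apply, LinearMap.smul_apply, smul_eq_mul,
          h.alt, h1, h5, mul_zero, add_zero, Nat.cast_add, Nat.cast_one]
        match_scalars <;> ring
    simp [hpow]
  obtain ⟨P, hP⟩ := IsPGroup.exists_le_sylow (hQp.comap_subtype (K := R))
  let LS : Subgroup (V ≃ₗ[F] V) :=
    { carrier := {g | ∀ x, g x ∈ K ∙ u ↔ x ∈ K ∙ u}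
      one_mem' := fun x => Iff.rfl
      mul_mem' := fun {a b} ha hb x => (ha (b x)).trans (hb x)
      inv_mem' := fun {a} ha x => by
        have := ha (a.symm x)
        rw [a.apply_symm_apply] at this
        exact this.symm }
  have hfix : ∀ g : ↥R, (g : V ≃ₗ[F] V) ∈ LS → ∀ x ∈ K ∙ u, (g : V ≃ₗ[F] V) x = x := by
    intro g hg x hx
    obtain ⟨k, rfl⟩ := Submodule.mem_span_singleton.mp hx
    exact hfixline g g.2.1 (fun x hx => (hg x).mpr hx) g.2.2.1 g.2.2.2 k
  have hQfix : ∀ x, (∀ q : ↥R, q ∈ (P : Subgroup ↥R) → (q : V ≃ₗ[F] V) ∈ LS →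
      (q : V ≃ₗ[F] V) x = x) → x ∈ K ∙ u := by
    intro x hx
    have hall : ∀ (w : V) (d : K), H u w = 0 → H x w • u + H x u • w + (d * H x u) • u = 0 := by
      intro w d hw
      obtain ⟨t, ht, htx⟩ := h.siegel hw d
      have hwu : H w u = 0 := by rw [h.skew u w, hw, neg_zero]
      have hq : t ∈ Q₀ := ⟨w, d, hw, htx⟩
      have hLS : t ∈ LS := by
        have hline : ∀ k : K, t (k • u) = k • u := fun k => by simp [htx, hw, h.alt]
        intro z
        refine ⟨fun hz => ?_, fun hz => ?_⟩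
        · obtain ⟨k, hk⟩ := Submodule.mem_span_singleton.mp hz
          rw [← hline] at hk
          exact Submodule.mem_span_singleton.mpr ⟨k, t.injective hk⟩
        · obtain ⟨k, rfl⟩ := Submodule.mem_span_singleton.mp hz
          rw [hline]; exact hz
      have := hx ⟨t, hQR hq⟩ (hP hq) hLS
      simpa [htx, add_assoc] using this
    have hxu : H x u = 0 := by
      have := hall 0 1 (by simp)
      simpa [hu] using this
    refine h.mem_span_of_H_eq_zero hu fun w hw => ?_
    have := hall w 0 hw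
    simpa [hxu, hu] using this
  let P₁ : Subgroup ↥(P : Subgroup ↥R) := LS.comap (R.subtype.comp (P : Subgroup ↥R).subtype)
  have hPLS : ∀ q : ↥R, q ∈ (P : Subgroup ↥R) → (q : V ≃ₗ[F] V) ∈ LS := by
    suffices hP₁ : P₁ = ⊤ by
      intro q hq
      have : (⟨q, hq⟩ : ↥(P : Subgroup ↥R)) ∈ P₁ := hP₁ ▸ Subgroup.mem_top _
      exact this
    by_contra hne
    haveI : Group.IsNilpotent ↥(P : Subgroup ↥R) := P.isPGroup'.isNilpotent
    have hlt := Group.normalizerCondition_of_isNilpotent P₁ (lt_top_iff_ne_top.mpr hne)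
    obtain ⟨z, hz, hz1⟩ := SetLike.exists_of_lt hlt
    have hmap : ∀ w : ↥(P : Subgroup ↥R), w ∈ Subgroup.normalizer (P₁ : Set ↥(P : Subgroup ↥R)) →
        ∀ x ∈ K ∙ u, ((w : ↥R) : V ≃ₗ[F] V) x ∈ K ∙ u := by
      intro w hw x hx
      refine hQfix _ fun q hqP hqLS => ?_
      have hq1 : (⟨q, hqP⟩ : ↥(P : Subgroup ↥R)) ∈ P₁ := hqLS
      have hc1 : w⁻¹ * ⟨q, hqP⟩ * w ∈ P₁ :=
        (Subgroup.mem_normalizer_iff''.mp hw _).mp hq1
      have h3 := hfix _ (show ((((w⁻¹ * ⟨q, hqP⟩ * w : ↥(P : Subgroup ↥R)) : ↥R) :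
        V ≃ₗ[F] V)) ∈ LS from hc1) x hx
      have h4 := congrArg ((w : ↥R) : V ≃ₗ[F] V) h3
      simpa using h4
    refine hz1 fun x => ⟨fun hx => ?_, hmap z hz x⟩
    have := hmap z⁻¹ (Subgroup.inv_mem _ hz) _ hx
    simpa using this
  have hyR : ∀ g ∈ R, y * g * y⁻¹ ∈ R := by
    rintro g ⟨h1, h2, h3⟩
    have hy1 : y.symm u = u := y.symm_apply_eq.mpr hyu.symm
    have hy2 : y.symm (c • u) = c • u - u := y.symm_apply_eq.mpr (by
      rw [map_sub, hyc, hyu, add_sub_cancel_right])
    refine ⟨M.mul_mem (M.mul_mem hy h1) (M.inv_mem hy), ?_, ?_⟩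
    · show y (g (y.symm u)) = u
      rw [hy1, h2, hyu]
    · show y (g (y.symm (c • u))) = c • u
      rw [hy2, map_sub, h3, h2, map_sub, hyc, hyu, add_sub_cancel_right]
  let φ : ↥R →* ↥R :=
    { toFun := fun g => ⟨y * g * y⁻¹, hyR g g.2⟩
      map_one' := Subtype.ext (by simp)
      map_mul' := fun a b => Subtype.ext (by simp [mul_assoc]) }
  have hφ : Function.Surjective φ :=
    Finite.injective_iff_surjective.mp fun a b hab => Subtype.ext (by
      simpa [φ] using congrArg Subtype.val hab)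
  obtain ⟨ρ, hρ⟩ := MulAction.exists_smul_eq ↥R (P.mapSurjective hφ) P
  have hy' : ((ρ : V ≃ₗ[F] V) * y) ∈ M := M.mul_mem ρ.2.1 hy
  have hL : ∀ x ∈ K ∙ u, ((ρ : V ≃ₗ[F] V) * y) x ∈ K ∙ u := by
    intro x hx
    refine hQfix _ fun q hqP _ => ?_
    have hq : q ∈ ((ρ • P.mapSurjective hφ : Sylow p ↥R) : Subgroup ↥R) := by rw [hρ]; exact hqP
    rw [Sylow.coe_subgroup_smul, Sylow.coe_mapSurjective,
      Subgroup.mem_pointwise_smul_iff_inv_smul_mem, Subgroup.mem_map] at hq
    obtain ⟨s, hs, hse⟩ := hq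
    have hq' : q = ρ * φ s * ρ⁻¹ := by
      rw [hse]
      simp [MulAut.smul_def, mul_assoc]
    have h3 := hfix s (hPLS s hs) x hx
    rw [hq']
    simp [φ, h3]
  obtain ⟨τ, hτ⟩ := hind _ hy' hL (by
    rw [LinearEquiv.mul_apply, hyu]; exact ρ.2.2.1)
  refine hgood τ (smul_left_injective K hu ?_)
  show τ c • u = (c + 1) • u
  rw [← hτ, LinearEquiv.mul_apply, hyc, map_add, ρ.2.2.2, ρ.2.2.1, add_smul, one_smul]

end Setup

end CfsgLib.ExtFieldSymp
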