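import Mathlib
import Cfsg.Agent.Lib.ExtFieldSymp.Coeff

/-!
The Galois support of a root set: a stabiliser of the line which is not semilinear on it makes the
support everything, and then the root set contains the transvections over `F`.
-/

set_option autoImplicit false
set_option linter.unusedSectionVars false
set_option linter.unusedVariables false
set_option linter.style.haveILetI false

namespace CfsgLib.ExtFieldSymp

open Module

variable {F K V : Type*} [Field F] [Fintype F] [Field K] [Algebra F K] [AddCommGroup V]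
  [Module F V] [Module K V] [IsScalarTower F K V] [FiniteDimensional F V]
  [FiniteDimensional F K] [FiniteDimensional K V]

/-- Every automorphism occurs in some member of the root set. -/
def Full (M : Subgroup (V ≃ₗ[F] V)) (H : V →ₗ[K] V →ₗ[K] K) (u : V) : Prop :=
  ∀ σ : K ≃ₐ[F] K, ∃ d : (K ≃ₐ[F] K) → K, ev d ∈ rootSet M H u ∧ d σ ≠ 0

lemma sum_single_mul [DecidableEq (K ≃ₐ[F] K)] (t : K ≃ₐ[F] K) (z μ : K) :
    ∑ p, (Pi.single t z : (K ≃ₐ[F] K) → K) p * p μ = z * t μ := by
  rw [Finset.sum_eq_single t (fun p _ hp => by rw [Pi.single_eq_of_ne hp, zero_mul]) (by simp)]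
  simp

namespace Setup

variable {M : Subgroup (V ≃ₗ[F] V)} {H : V →ₗ[K] V →ₗ[K] K} (h : Setup M H)
include h

lemma coeff_inv {u : V} (hu : u ≠ 0) {d : (K ≃ₐ[F] K) → K} (hd : ev d ∈ rootSet M H u)
    (σ : K ≃ₐ[F] K) : d σ⁻¹ = σ⁻¹ (d σ) := by
  have e := congrFun (adjC_eq_of_isAdj_self (h.isAdj_self hu hd)) σ⁻¹
  rw [adjC, inv_inv] at e
  exact e.symm

lemma polar_coeff {u : V} (hu : u ≠ 0) {d : (K ≃ₐ[F] K) → K} (hd : ev d ∈ rootSet M H u) (μ ν : K) :
    ev (fun σ => d σ * (μ * σ ν + ν * σ μ)) ∈ rootSet M H u := by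
  rw [← ev_polar]
  exact h.polar_mem hu hd μ ν

/-- Closure of the root set under symmetrised weights. -/
lemma weight_mem {u : V} (hu : u ≠ 0) {d : (K ≃ₐ[F] K) → K} (hd : ev d ∈ rootSet M H u)
    (v : (K ≃ₐ[F] K) → K) : ev (fun σ => d σ * (v σ + σ (v σ⁻¹))) ∈ rootSet M H u := by
  classical
  have htop : Submodule.span K (Set.range fun (ν : K) (σ : K ≃ₐ[F] K) => σ ν) = ⊤ := by
    by_contra hne
    obtain ⟨φ, hφ0, hφ⟩ := Submodule.exists_le_ker_of_lt_top _ (lt_top_iff_ne_top.2 hne)
    refine hφ0 (LinearMap.pi_ext' fun σ => LinearMap.ext_ring ?_)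
    have hc : (fun σ => φ (Pi.single σ 1)) = 0 := eq_zero_of_forall fun a => by
      have e : φ (fun σ : K ≃ₐ[F] K => σ a) = 0 := hφ (Submodule.subset_span ⟨a, rfl⟩)
      rw [pi_eq_sum_univ (fun σ : K ≃ₐ[F] K => σ a), map_sum] at e
      refine Eq.trans (Finset.sum_congr rfl fun σ _ => ?_) e
      rw [map_smul, smul_eq_mul, mul_comm]
      congr 2
      funext τ
      simp [Pi.single_apply, eq_comm]
    simpa using congrFun hc σ
  have hv : v ∈ Submodule.span K (Set.range fun (ν : K) (σ : K ≃ₐ[F] K) => σ ν) := htop ▸ trivial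
  obtain ⟨c, rfl⟩ := (Finsupp.mem_span_range_iff_exists_finsupp).1 hv
  convert h.rootSet_sum (s := c.support) (D := fun ν => ev (fun σ => d σ * (c ν * σ ν + ν * σ (c ν))))
    (fun ν _ => h.polar_coeff hu hd (c ν) ν) using 1
  ext a
  simp only [Finsupp.sum, LinearMap.sum_apply, ev_apply, Finset.sum_apply, Pi.smul_apply,
    smul_eq_mul, map_sum, map_mul]
  rw [Finset.sum_comm]
  refine Finset.sum_congr rfl fun σ _ => ?_
  rw [← Finset.sum_add_distrib, Finset.mul_sum, Finset.sum_mul]
  refine Finset.sum_congr rfl fun ν _ => ?_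
  simp only [show σ (σ⁻¹ ν) = ν from σ.apply_symm_apply ν]
  ring

/-- The component of the transvection over `F` at a pair of inverse automorphisms. -/
lemma pair_mem {u : V} (hu : u ≠ 0) (hfull : Full M H u) (e : F) (s : K ≃ₐ[F] K)
    [DecidablePred fun σ : K ≃ₐ[F] K => σ = s ∨ σ = s⁻¹] :
    ev (fun σ => if σ = s ∨ σ = s⁻¹ then algebraMap F K e else 0) ∈ rootSet M H u := by
  classical
  rcases eq_or_ne s 1 with rfl | hs1
  · convert h.mulLeft_mem_rootSet u (algebraMap F K e) using 1
    rw [← ev_single_one (F := F)]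
    congr 1
    funext σ
    simp [Pi.single_apply]
  obtain ⟨d, hd, hds⟩ := hfull s
  by_cases hss : s⁻¹ = s
  · have hfix : s (d s) = d s := by
      have := h.coeff_inv hu hd s
      rw [hss] at this
      exact this.symm
    have hinv : ∀ x, s (s x) = x := fun x => by
      nth_rw 1 [← hss]
      exact s.symm_apply_apply x
    obtain ⟨z₀, hz₀⟩ : ∃ z₀, z₀ + s z₀ ≠ 0 := by
      by_contra hh
      simp only [not_exists, not_not] at hh
      have h2 : (1 : K) + 1 = 0 := by simpa using hh 1
      refine hs1 (AlgEquiv.ext fun x => ?_)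
      show s x = x
      linear_combination hh x - x * h2
    set w := z₀ + s z₀ with hw
    have hwfix : s w = w := by rw [hw, map_add, hinv, add_comm]
    convert h.weight_mem hu hd (Pi.single s (z₀ * (algebraMap F K e / (d s * w)))) using 1
    congr 1
    funext σ
    rcases eq_or_ne σ s with rfl | hσ
    · rw [if_pos (Or.inl rfl), hss, Pi.single_eq_same, map_mul, map_div₀, map_mul,
        AlgEquiv.commutes, hfix, hwfix, ← add_mul, ← hw]
      field_simp
    · have hσ' : σ⁻¹ ≠ s := fun e => hσ (by rw [← inv_inj, e, hss])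
      rw [if_neg (by rw [hss]; simp [hσ]), Pi.single_eq_of_ne hσ, Pi.single_eq_of_ne hσ']
      simp
  · convert h.weight_mem hu hd (Pi.single s (algebraMap F K e / d s)) using 1
    congr 1
    funext σ
    rcases eq_or_ne σ s with rfl | hσ
    · rw [if_pos (Or.inl rfl), Pi.single_eq_same, Pi.single_eq_of_ne hss]
      simp [mul_div_cancel₀ _ hds]
    rcases eq_or_ne σ s⁻¹ with rfl | hσ'
    · rw [if_pos (Or.inr rfl), Pi.single_eq_of_ne hss, inv_inv, Pi.single_eq_same,
        h.coeff_inv hu hd s, zero_add, ← map_mul, mul_div_cancel₀ _ hds, AlgEquiv.commutes]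
    · rw [if_neg (by simp [hσ, hσ']), Pi.single_eq_of_ne hσ,
        Pi.single_eq_of_ne (fun e => hσ' (by rw [← e, inv_inv]))]
      simp

/-- The trace lies in a root set with full support. -/
lemma trace_mem {u : V} (hu : u ≠ 0) (hfull : Full M H u) (e : F) :
    ev (fun _ : K ≃ₐ[F] K => algebraMap F K e) ∈ rootSet M H u := by
  classical
  suffices key : ∀ n (T : Finset (K ≃ₐ[F] K)), T.card ≤ n → (∀ σ ∈ T, σ⁻¹ ∈ T) →
      ev (fun σ => if σ ∈ T then algebraMap F K e else 0) ∈ rootSet M H u by
    simpa using key _ Finset.univ le_rfl (by simp)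
  intro n
  induction n with
  | zero =>
    intro T hT _
    simp only [Finset.card_eq_zero.mp (Nat.le_zero.mp hT), Finset.notMem_empty, if_false]
    exact ev_zero (F := F) (K := K) ▸ h.rootSet_zero u
  | succ n ih =>
    intro T hT hinv
    rcases T.eq_empty_or_nonempty with rfl | ⟨s, hs⟩
    · exact ih _ (by simp) hinv
    have h1 := ih ((T.erase s).erase s⁻¹) (by
      have := Finset.card_erase_le (s := T.erase s) (a := s⁻¹)
      rw [Finset.card_erase_of_mem hs] at this
      omega) (fun σ hσ => by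
        simp only [Finset.mem_erase, ne_eq] at hσ ⊢
        exact ⟨fun e => hσ.2.1 (inv_inj.mp e), fun e => hσ.1 (by rw [← e, inv_inv]), hinv σ hσ.2.2⟩)
    convert h.rootSet_add (h.pair_mem hu hfull e s) h1 using 1
    rw [← ev_add]
    congr 1
    funext σ
    simp only [Pi.add_apply, Finset.mem_erase, ne_eq]
    by_cases hσ : σ = s ∨ σ = s⁻¹
    · have hT' : σ ∈ T := by rcases hσ with rfl | rfl; exacts [hs, hinv _ hs]
      rcases hσ with e | e <;> simp [e, hs, hinv s hs]
    · rw [not_or] at hσ
      simp [hσ.1, hσ.2]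

/-- A line stabiliser which is not semilinear on the line makes the support everything. -/
lemma full_of_not_semi {u : V} (hu : u ≠ 0) {g : V ≃ₗ[F] V} (hg : g ∈ M) {a : Module.End F K}
    (ha : ∀ k : K, g (k • u) = a k • u) (hns : ¬ ∀ k z, a (k * z) * a 1 = a k * a z) :
    Full M H u := by
  classical
  by_contra hfull
  simp only [Full, not_forall, not_exists, not_and, not_not] at hfull
  obtain ⟨t₀, ht₀⟩ := hfull
  have hinj : Function.Injective a := fun x y hxy =>
    smul_left_injective K hu (g.injective (by rw [ha, ha, hxy]))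
  let A : K ≃ₗ[F] K := LinearEquiv.ofBijective a
    ⟨hinj, LinearMap.injective_iff_surjective.mp hinj⟩
  have hAa : ∀ k, a (A.symm k) = k := A.apply_symm_apply
  have hginv : ∀ k : K, (g⁻¹ : V ≃ₗ[F] V) (k • u) = A.symm.toLinearMap k • u := fun k => by
    refine g.injective ?_
    show g (g.symm (k • u)) = _
    rw [g.apply_symm_apply, ha, LinearEquiv.coe_coe, hAa]
  obtain ⟨b, hb⟩ := ev_surjective (F := F) a
  obtain ⟨c, hc⟩ := ev_surjective (F := F) A.symm.toLinearMap
  have hb' : IsAdj a (ev (adjC b)) := hb ▸ isAdj_adjC b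
  have hc' : IsAdj A.symm.toLinearMap (ev (adjC c)) := hc ▸ isAdj_adjC c
  refine hns ?_
  suffices hmul : ∀ k : K, ∃ m : K, ∀ z, a (k * A.symm z) = m * z by
    intro k z
    obtain ⟨m, hm⟩ := hmul k
    have e1 : a k = m * a 1 := by
      have := hm (a 1)
      rwa [show A.symm (a 1) = 1 from A.symm_apply_apply 1, mul_one] at this
    have e2 : a (k * z) = m * a z := by
      have := hm (a z)
      rwa [show A.symm (a z) = z from A.symm_apply_apply z] at this
    rw [e1, e2]; ring
  intro k
  obtain ⟨x, hx⟩ := ev_surjective (F := F) (a ∘ₗ LinearMap.mulLeft F k ∘ₗ A.symm.toLinearMap)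
  have hx' : IsAdj (a ∘ₗ LinearMap.mulLeft F k ∘ₗ A.symm.toLinearMap)
      (ev (adjC c) ∘ₗ LinearMap.mulLeft F k ∘ₗ ev (adjC b)) := fun p q => by
    simp only [LinearMap.comp_apply, LinearMap.mulLeft_apply]
    rw [hb', mul_comm k, mul_assoc, hc']
  have hadj : ev (adjC x) = ev (adjC c) ∘ₗ LinearMap.mulLeft F k ∘ₗ ev (adjC b) :=
    (isAdj_adjC x).eq (hx ▸ hx')
  have hg' : ∀ d : (K ≃ₐ[F] K) → K, ev d ∈ rootSet M H u →
      ev x ∘ₗ ev d + ev d ∘ₗ ev (adjC x) ∈ rootSet M H u := by
    intro d hd
    have h0 := h.rootSet_conj (M.inv_mem hg) hginv hc' hd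
    have h1 := h.polar_mem hu h0 k 1
    convert h.rootSet_conj hg ha hb' h1 using 1
    have haA : ∀ z, ev (adjC c) (ev (adjC b) z) = z := fun z => tr_ext fun p => by
      rw [← hc', ← hb', LinearEquiv.coe_coe, hAa]
    refine LinearMap.ext fun z => ?_
    rw [hx, hadj]
    simp only [LinearMap.add_apply, LinearMap.comp_apply, LinearMap.mulLeft_apply, one_mul,
      LinearEquiv.coe_coe, map_add, hAa]
    rw [haA]
  -- supported on the identity
  have hsupp : ∀ j : K ≃ₐ[F] K, j ≠ 1 → x j = 0 := by
    intro j hj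
    have heq : ∀ d : (K ≃ₐ[F] K) → K, ev d ∈ rootSet M H u → ∀ t : K ≃ₐ[F] K,
        (∀ d', ev d' ∈ rootSet M H u → d' t = 0) →
        (∑ i, x i * i (d (i⁻¹ * t))) + ∑ i, d i * t (x (t⁻¹ * i)) = 0 := by
      intro d hd t ht
      have e := hg' d hd
      rw [ev_comp, ev_comp, ← ev_add] at e
      have e' := ht _ e
      simp only [Pi.add_apply, adjC, mul_inv_rev, inv_inv] at e'
      refine Eq.trans ?_ e'
      congr 1
      refine Finset.sum_congr rfl fun i _ => ?_
      rw [show i ((i⁻¹ * t) (x (t⁻¹ * i))) = t (x (t⁻¹ * i)) from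
        i.apply_symm_apply (t (x (t⁻¹ * i)))]
    by_cases hjI : ∀ d, ev d ∈ rootSet M H u → d j = 0
    · have hone : ∀ y : K, x j * j y + y * j (x j⁻¹) = 0 := by
        intro y
        have e := heq (Pi.single 1 y) (ev_single_one (F := F) y ▸ h.mulLeft_mem_rootSet u y) j hjI
        rw [Finset.sum_eq_single j (fun i _ hi => by
            rw [Pi.single_eq_of_ne (fun e => hi (inv_mul_eq_one.mp e)), map_zero, mul_zero]) (by simp),
          Finset.sum_eq_single (1 : K ≃ₐ[F] K) (fun i _ hi => by
            rw [Pi.single_eq_of_ne hi, zero_mul]) (by simp)] at e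
        simpa using e
      obtain ⟨y, hy⟩ : ∃ y, j y ≠ y := by
        by_contra hh
        simp only [not_exists, not_not] at hh
        exact hj (AlgEquiv.ext hh)
      have e1 := hone 1
      rw [map_one, mul_one, one_mul] at e1
      have : x j * (j y - y) = 0 := by linear_combination hone y - y * e1
      exact (mul_eq_zero.mp this).resolve_right (sub_ne_zero.mpr hy)
    · obtain ⟨i, ⟨d, hd, hdi⟩, hji⟩ : ∃ i, (∃ d, ev d ∈ rootSet M H u ∧ d i ≠ 0) ∧
          ∀ d, ev d ∈ rootSet M H u → d (j * i) = 0 := by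
        by_contra hh
        simp only [not_exists, not_and, not_forall] at hh
        have hpow : ∀ n : ℕ, ∃ d, ev d ∈ rootSet M H u ∧ d (j ^ n) ≠ 0 := by
          intro n
          induction n with
          | zero =>
            refine ⟨Pi.single 1 (1 : K), ev_single_one (F := F) (1 : K) ▸ h.mulLeft_mem_rootSet u 1, ?_⟩
            simp
          | succ n ih =>
            obtain ⟨d, hd, hne⟩ := hh (j ^ n) ih
            exact ⟨d, hd, by rwa [pow_succ']⟩
        have : Fact (finrank F K).Prime := ⟨h.prime⟩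
        haveI : Finite K := Module.finite_of_finite F
        have hgen : t₀ ∈ Subgroup.zpowers j :=
          mem_zpowers_of_prime_card (p := finrank F K) (IsGalois.card_aut_eq_finrank F K) hj
        obtain ⟨n, rfl⟩ := mem_powers_iff_mem_zpowers.mpr hgen
        obtain ⟨d, hd, hne⟩ := hpow n
        exact hne (ht₀ d hd)
      set t := j * i with ht
      have ht1 : t ≠ 1 := fun e => by
        have := hji _ (ev_single_one (F := F) (1 : K) ▸ h.mulLeft_mem_rootSet u 1)
        rw [e, Pi.single_eq_same] at this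
        exact one_ne_zero this
      have htj : t ≠ j := fun e => by
        have hi1 : i = 1 := by simpa [ht] using e
        exact hjI (by intro d' hd'; simpa [ht, hi1] using hji d' hd')
      have hlin : ∀ μ ν : K, (∑ p, (x p * p (d (p⁻¹ * t)) * t ν) * p μ) +
          ((∑ p, x p * p (d (p⁻¹ * t)) * p ν) * t μ) +
          (∑ p, d p * t (x (t⁻¹ * p)) * p ν) * μ +
          ∑ p, (d p * t (x (t⁻¹ * p)) * ν) * p μ = 0 := by
        intro μ ν
        have e := heq _ (h.polar_coeff hu hd μ ν) t hji
        refine Eq.trans ?_ e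
        simp only [Finset.sum_mul, ← Finset.sum_add_distrib]
        refine Finset.sum_congr rfl fun p _ => ?_
        rw [map_mul, map_add, map_mul, map_mul]
        simp only [show ∀ z : K, p ((p⁻¹ * t) z) = t z from fun z => p.apply_symm_apply (t z)]
        ring
      have hcoef : ∀ ν : K, x j * j (d i) * t ν + d j * t (x (t⁻¹ * j)) * ν = 0 := by
        intro ν
        have hz := congrFun (eq_zero_of_forall
          (c := (fun p => x p * p (d (p⁻¹ * t)) * t ν) +
            Pi.single t (∑ p, x p * p (d (p⁻¹ * t)) * p ν) +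
            Pi.single 1 (∑ p, d p * t (x (t⁻¹ * p)) * p ν) +
            fun p => d p * t (x (t⁻¹ * p)) * ν) fun μ => ?_) j
        · rw [Pi.add_apply, Pi.add_apply, Pi.add_apply, Pi.single_eq_of_ne htj.symm,
            Pi.single_eq_of_ne hj] at hz
          simpa [ht] using hz
        · refine Eq.trans ?_ (hlin μ ν)
          simp only [Pi.add_apply, add_mul, Finset.sum_add_distrib]
          rw [sum_single_mul, sum_single_mul]
          simp
      have hz := congrFun (eq_zero_of_forall
        (c := Pi.single t (x j * j (d i)) + Pi.single 1 (d j * t (x (t⁻¹ * j)))) fun ν => ?_) t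
      · simp [Pi.single_eq_of_ne ht1, hdi] at hz
        exact hz
      · refine Eq.trans ?_ (hcoef ν)
        simp only [Pi.add_apply, add_mul, Finset.sum_add_distrib]
        rw [sum_single_mul, sum_single_mul]
        simp
  refine ⟨x 1, fun z => ?_⟩
  have e := LinearMap.congr_fun hx z
  rw [ev_apply, Finset.sum_eq_single (1 : K ≃ₐ[F] K)
    (fun i _ hi => by rw [hsupp i hi, zero_mul]) (by simp)] at e
  simpa using e.symm

end Setup

end CfsgLib.ExtFieldSymp
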