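import Mathlib
import Cfsg.Agent.Lib.ExtFieldMax.BinaryTwo
import Cfsg.Agent.Lib.ExtFieldSymp.Roots
import Cfsg.Agent.Lib.ExtFieldSymp.Line

/-!
An overgroup of the symplectic group over `K` with a member which is not semilinear contains all
symplectic transvections over `F`. The case `|F| = |K : F| = 2` is settled by two commutators.
-/

set_option autoImplicit false
set_option linter.unusedSectionVars false
set_option linter.unusedVariables false
set_option linter.style.haveILetI false

namespace CfsgLib.ExtFieldSymp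

open Module CfsgLib.ExtFieldMax

variable {F K V : Type*} [Field F] [Fintype F] [Field K] [Algebra F K] [AddCommGroup V]
  [Module F V] [Module K V] [IsScalarTower F K V] [FiniteDimensional F V]
  [FiniteDimensional F K] [FiniteDimensional K V]

namespace Setup

variable {M : Subgroup (V ≃ₗ[F] V)} {H : V →ₗ[K] V →ₗ[K] K} (h : Setup M H)
include h

lemma full_transport {u u' : V} (hu : u ≠ 0) (hu' : u' ≠ 0) (hf : Full M H u) : Full M H u' := by
  obtain ⟨g, hg, e, l⟩ := h.exists_map hu hu'
  intro σ
  obtain ⟨d, hd, hds⟩ := hf σ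
  refine ⟨d, ?_, hds⟩
  have := h.rootSet_conj hg (u' := u') (a := LinearMap.id) (a' := LinearMap.id)
    (fun k => by rw [l, e, LinearMap.id_apply]) (fun a b => rfl) hd
  simpa using this

/-- Over the field of two elements and a quadratic extension some root set is full. -/
lemma full_binary (hF : Fintype.card F = 2) (hr : finrank F K = 2) (h3 : 3 ≤ finrank K V)
    (hns : ∃ g ∈ M, ¬ IsSemi K g) : ∃ u : V, u ≠ 0 ∧ Full M H u := by
  classical
  haveI : Finite K := Module.finite_of_finite F
  have h2F : (2 : F) = 0 := by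
    have : ((Fintype.card F : ℕ) : F) = 0 := FiniteField.cast_card_eq_zero F
    rw [hF] at this
    exact_mod_cast this
  have h2 : (2 : K) = 0 := by rw [← map_ofNat (algebraMap F K) 2, h2F, map_zero]
  obtain ⟨c, htc⟩ := Algebra.trace_surjective F K 1
  have hcardG : Fintype.card (K ≃ₐ[F] K) = 2 := by
    rw [← Nat.card_eq_fintype_card, IsGalois.card_aut_eq_finrank, hr]
  obtain ⟨σ, hσ⟩ := Fintype.exists_ne_of_one_lt_card (by omega : 1 < Fintype.card (K ≃ₐ[F] K)) 1
  have huniv : (Finset.univ : Finset (K ≃ₐ[F] K)) = {1, σ} := (Finset.eq_univ_of_card _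
    (by rw [Finset.card_pair hσ.symm, hcardG])).symm
  have htr : ∀ a : K, algebraMap F K (Algebra.trace F K a) = a + σ a := fun a => by
    rw [trace_eq_sum_automorphisms, huniv, Finset.sum_pair hσ.symm]
    simp
  have hσc : σ c = 1 + c := by
    have := htr c
    rw [htc, map_one] at this
    linear_combination -this - c * h2
  have htr1 : Algebra.trace F K (1 : K) = 0 := by
    apply (algebraMap F K).injective
    rw [htr, map_one, map_zero]
    linear_combination h2
  have hcF : c ∉ Set.range (algebraMap F K) := by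
    rintro ⟨e, he⟩
    have := hσc
    rw [← he, AlgEquiv.commutes] at this
    exact one_ne_zero (by linear_combination -this : (1 : K) = 0)
  obtain ⟨g, hg, v, hgv⟩ := h.exists_off hns hcF
  set w₁ := g v with hw₁
  set w₂ := g (c • v) with hw₂
  let τ : K → K := fun a => algebraMap F K (Algebra.trace F K a)
  have hτ : ∀ a, τ a = algebraMap F K (Algebra.trace F K a) := fun a => rfl
  -- a root element of the line of `v`, moved by `g`
  obtain ⟨A, hA, eA⟩ : ∃ A ∈ M, ∀ x, A x =
      x + (τ (H x w₂) + τ (H x w₁)) • w₁ + τ (H x w₁) • w₂ := by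
    obtain ⟨t, ht, et⟩ := h.tv v 1
    refine ⟨g * t * g⁻¹, M.mul_mem (M.mul_mem hg ht) (M.inv_mem hg), fun x => ?_⟩
    set a := H (g.symm x) v with ha
    have e1 : Algebra.trace F K a = Algebra.trace F K (H x w₁) := by
      rw [← h.iso g hg (g.symm x) v, g.apply_symm_apply]
    have e2 : Algebra.trace F K (c * a) = Algebra.trace F K (H x w₂) := by
      have := h.iso g hg (g.symm x) (c • v)
      rw [g.apply_symm_apply, (H (g.symm x)).map_smul, smul_eq_mul] at this
      exact this.symm
    have e3 : a = algebraMap F K (Algebra.trace F K (c * a) + Algebra.trace F K a) +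
        algebraMap F K (Algebra.trace F K a) * c := by
      rw [map_add, htr, htr, map_mul, hσc]
      linear_combination -(σ a + c * σ a + c * a) * h2
    show g (t (g.symm x)) = _
    rw [et, map_add, g.apply_symm_apply, one_mul, ← ha, e3, add_smul, mul_smul, map_add,
      algebraMap_smul, algebraMap_smul, map_smul, map_smul, ← hw₁, ← hw₂, e1, e2, hτ, hτ,
      ← map_add (algebraMap F K), algebraMap_smul, algebraMap_smul, add_assoc]
  -- a vector pairing with the moved line in one dimension
  have hw₂0 : w₂ ∉ K ∙ w₁ := hgv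
  obtain ⟨u, hu1, hu2, huw⟩ : ∃ u, H w₁ u = 0 ∧ H w₂ u = 1 ∧ u ∉ K ∙ w₁ := by
    obtain ⟨u, hu1, hu2⟩ := h.exists_eval hw₂0
    by_cases hu : u ∈ K ∙ w₁
    · obtain ⟨μ, hμ⟩ := Submodule.mem_span_singleton.mp hu
      have hw : H w₂ w₁ ≠ 0 := fun e => by simp [← hμ, e] at hu2
      have hker : LinearMap.ker ((H w₁).prod (H w₂)) ≠ ⊥ := by
        refine LinearMap.ker_ne_bot_of_finrank_lt ?_
        rw [Module.finrank_prod, Module.finrank_self]
        omega
      obtain ⟨z, hz, hz0⟩ := Submodule.exists_mem_ne_zero_of_ne_bot hker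
      replace hz : H w₁ z = 0 ∧ H w₂ z = 0 := by
        rw [LinearMap.mem_ker] at hz
        exact ⟨congrArg Prod.fst hz, congrArg Prod.snd hz⟩
      refine ⟨u + z, by simp [hu1, hz.1], by simp [hu2, hz.2], fun hm => hz0 ?_⟩
      have hzm : z ∈ K ∙ w₁ := by simpa using Submodule.sub_mem _ hm hu
      obtain ⟨k, rfl⟩ := Submodule.mem_span_singleton.mp hzm
      have := hz.2
      rw [map_smul, smul_eq_mul, mul_eq_zero] at this
      simp [this.resolve_right hw]
    · exact ⟨u, hu1, hu2, hu⟩
  have hu0 : u ≠ 0 := fun e => huw (by simp [e])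
  have hw12 : Algebra.trace F K (H w₁ w₂) = 0 := by
    rw [h.iso g hg v (c • v)]; simp [h.alt]
  have hw21 : Algebra.trace F K (H w₂ w₁) = 0 := by
    rw [h.skew w₁ w₂, map_neg, hw12, neg_zero]
  have hu1' : H u w₁ = 0 := by rw [h.skew w₁ u, hu1, neg_zero]
  have hu2' : H u w₂ = -1 := by rw [h.skew w₂ u, hu2]
  obtain ⟨B, hB, eB⟩ := h.tv u 1
  simp only [one_mul] at eB
  -- the short root element over `F`
  obtain ⟨C, hC, eC⟩ : ∃ C ∈ M, ∀ x, C x = x + τ (H x u) • w₁ + τ (H x w₁) • u := by
    refine ⟨B * A * B⁻¹ * A⁻¹, M.mul_mem (M.mul_mem (M.mul_mem hB hA) (M.inv_mem hB)) (M.inv_mem hA),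
      fun x => ?_⟩
    obtain ⟨y, rfl⟩ : ∃ y, A (B y) = x := ⟨B.symm (A.symm x), by simp⟩
    show B (A (B.symm (A.symm (A (B y))))) = _
    rw [A.symm_apply_apply, B.symm_apply_apply]
    simp only [eB, eA, map_add, map_smul, LinearMap.add_apply, LinearMap.smul_apply, smul_eq_mul,
      hu1, hu2, hu1', hu2', h.alt, mul_zero, add_zero, mul_one, mul_neg, map_neg, hτ]
    have key : ∀ (s : F) (z : K), algebraMap F K (Algebra.trace F K (algebraMap F K s * z)) =
        algebraMap F K s * algebraMap F K (Algebra.trace F K z) := fun s z => by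
      rw [← Algebra.smul_def, map_smul, smul_eq_mul, map_mul]
    have key0 : ∀ s : F, Algebra.trace F K (algebraMap F K s) = 0 := fun s => by
      rw [Algebra.trace_algebraMap, hr, two_nsmul, ← two_mul, h2F, zero_mul]
    simp only [← map_add, ← map_neg, key, key0, hw21, map_zero, mul_zero, add_zero]
    simp only [map_add, map_neg]
    match_scalars <;> (clear * - h2; grind)
  -- the commutator with a short root element over `K`
  have hwu : w₁ ∉ K ∙ u := fun hm => by
    obtain ⟨k, hk⟩ := Submodule.mem_span_singleton.mp hm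
    rcases eq_or_ne k 0 with rfl | hk0
    · exact hw₂0 (by
        have : w₁ = 0 := by simpa using hk.symm
        have hv : v = 0 := g.map_eq_zero_iff.mp this
        rw [hw₂, hv]; simp)
    · exact huw (Submodule.mem_span_singleton.mpr ⟨k⁻¹, by rw [← hk, inv_smul_smul₀ hk0]⟩)
  obtain ⟨z, huz, hwz⟩ := h.exists_eval hwu
  have hzu : H z u = 0 := by rw [h.skew u z, huz, neg_zero]
  have hzw : H z w₁ = -1 := by rw [h.skew w₁ z, hwz]
  obtain ⟨S, hS, eS⟩ := h.short huz c
  set D : Module.End F K := -((Algebra.linearMap F K).comp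
      ((Algebra.trace F K).comp (LinearMap.mulLeft F c)) +
    LinearMap.mulLeft F c ∘ₗ (Algebra.linearMap F K).comp (Algebra.trace F K)) with hD
  have hDmem : D ∈ rootSet M H u := by
    refine ⟨C * S * (S * C)⁻¹, M.mul_mem (M.mul_mem hC hS) (M.inv_mem (M.mul_mem hS hC)),
      fun x => ?_⟩
    obtain ⟨y, rfl⟩ : ∃ y, S (C y) = x := ⟨C.symm (S.symm x), by simp⟩
    rw [mul_inv_rev]
    show C (S (C.symm (S.symm (S (C y))))) = _
    rw [S.symm_apply_apply, C.symm_apply_apply]
    simp only [eS, eC, map_add, map_smul, LinearMap.add_apply, LinearMap.smul_apply, smul_eq_mul,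
      hu1, hu1', huz, hzu, hwz, hzw, h.alt, mul_zero, add_zero, mul_one, mul_neg, map_neg, hτ, hD,
      LinearMap.neg_apply, LinearMap.comp_apply, LinearMap.mulLeft_apply, Algebra.linearMap_apply]
    match_scalars <;> (clear * - h2; grind)
  refine ⟨u, hu0, fun ρ => ?_⟩
  rcases eq_or_ne ρ 1 with rfl | hρ
  · exact ⟨Pi.single 1 1, ev_single_one (F := F) (1 : K) ▸ h.mulLeft_mem_rootSet u 1, by simp⟩
  have hρσ : ρ = σ := by
    have := Finset.mem_univ ρ
    rw [huniv, Finset.mem_insert, Finset.mem_singleton] at this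
    exact this.resolve_left hρ
  obtain ⟨d, hd⟩ := ev_surjective (F := F) D
  refine ⟨d, hd ▸ hDmem, fun e => ?_⟩
  have hDe : ∀ a, D a = d 1 * a := fun a => by
    rw [← hd, ev_apply, huniv, Finset.sum_pair hσ.symm, ← hρσ, e]
    simp
  have e1 := hDe 1
  have e2 := hDe c
  simp only [hD, LinearMap.neg_apply, LinearMap.add_apply, LinearMap.comp_apply,
    LinearMap.mulLeft_apply, Algebra.linearMap_apply, mul_one, htc, htr1, map_one, map_zero,
    mul_zero, add_zero] at e1 e2
  rw [htr, map_mul, hσc] at e2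
  exact one_ne_zero (show (1 : K) = 0 by linear_combination -e2 + c * e1 - (c + c * c) * h2)

/-- Some root set is full. -/
theorem exists_full (hns : ∃ g ∈ M, ¬ IsSemi K g)
    (hsmall : Fintype.card F = 2 → finrank F K = 2 → 3 ≤ finrank K V) :
    ∃ u : V, u ≠ 0 ∧ Full M H u := by
  by_cases hbin : Fintype.card F = 2 ∧ finrank F K = 2
  · exact h.full_binary hbin.1 hbin.2 (hsmall hbin.1 hbin.2) hns
  · obtain ⟨c, hc, hgood⟩ := CfsgLib.ExtFieldMax.exists_good h.prime hbin
    obtain ⟨u, hu, g, hg, a, ha, hna⟩ := h.exists_line_not_semi hns hc hgood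
    exact ⟨u, hu, h.full_of_not_semi hu hg ha hna⟩

/-- All transvections over `F` lie in `M`. -/
theorem transvection_mem (hns : ∃ g ∈ M, ¬ IsSemi K g)
    (hsmall : Fintype.card F = 2 → finrank F K = 2 → 3 ≤ finrank K V) (u : V) (e : F) :
    ∃ g ∈ M, ∀ x, g x = x + (e * Algebra.trace F K (H x u)) • u := by
  haveI : Finite K := Module.finite_of_finite F
  rcases eq_or_ne u 0 with rfl | hu
  · exact ⟨1, M.one_mem, fun x => by simp⟩
  obtain ⟨u₀, hu₀, hf⟩ := h.exists_full hns hsmall
  obtain ⟨g, hg, eg⟩ := h.trace_mem hu (h.full_transport hu₀ hu hf) e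
  refine ⟨g, hg, fun x => ?_⟩
  rw [eg, ev_apply, ← Finset.mul_sum, ← trace_eq_sum_automorphisms, ← map_mul, algebraMap_smul]

/-- A transvection over `F` is not semilinear. -/
lemma not_isSemi_of_transvection {u : V} (hu : u ≠ 0) {g : V ≃ₗ[F] V}
    (eg : ∀ x, g x = x + Algebra.trace F K (H x u) • u) : ¬ IsSemi K g := by
  haveI : Finite K := Module.finite_of_finite F
  intro hs
  obtain ⟨c, hc⟩ : ∃ c : K, c ∉ Set.range (algebraMap F K) := by
    by_contra hh
    simp only [not_exists, not_not] at hh
    have hle := LinearMap.finrank_range_le (Algebra.linearMap F K)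
    rw [LinearMap.range_eq_top.mpr (show Function.Surjective (Algebra.linearMap F K) from hh),
      finrank_top, Module.finrank_self] at hle
    have := h.prime.two_le
    omega
  obtain ⟨k, hk⟩ := hs c
  have hku : k = c := by
    have := hk u
    rw [eg, eg] at this
    simp [h.alt] at this
    exact (smul_left_injective K hu this).symm
  obtain ⟨a, ha⟩ := Algebra.trace_surjective F K 1
  obtain ⟨x, hx⟩ := h.exists_H_eq hu a
  have := hk x
  rw [eg, eg, hku, hx, ha, one_smul, map_smul, LinearMap.smul_apply, hx, smul_eq_mul, smul_add] at this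
  have e := add_left_cancel this
  rw [← algebraMap_smul K (Algebra.trace F K (c * a)) u] at e
  exact hc ⟨_, smul_left_injective K hu e⟩

end Setup

end CfsgLib.ExtFieldSymp
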